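import Groth.Agent.CAlg8.SeesawH1Near
import Groth.Agent.KRR40.PnTransfer
import Groth.Agent.KRR40.BaseChange
import Groth.Agent.KRR40.PKBaseClosed
import Groth.Agent.ASB64.PicProj
import Groth.Agent.ASB64.PushSplit
import Groth.Agent.H98Proj.SmoothPn
import Groth.Agent.PicLim95.Basic
import Groth.Agent.Approx60.Absolute
import Groth.Agent.LimTop61.BaseChange
import Groth.Agent.Props58.PullTensor
import Groth.Agent.Mero90.Triv
import Groth.Agent.S0023

/-! Invertible modules on projective space over a base, locally on the base. -/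

set_option autoImplicit false
set_option maxSynthPendingDepth 6
set_option backward.isDefEq.respectTransparency false
set_option backward.isDefEq.respectTransparency.types false
universe u

open CategoryTheory CategoryTheory.Limits AlgebraicGeometry TopologicalSpace

noncomputable section

namespace Groth.Agent.Pn25

open Var76.LineBundle KRR40

variable (r : ℕ) {Y : Scheme.{u}}

theorem isInvertible_twistOver (Y : Scheme.{u}) (d : ℤ) : PicF.IsInvertible (Twist.twistOver r Y d) :=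
  Amp73.isInvertible_pullback _ (Var76.Reg.isInvertible_twist (n := r) (A := ULift.{u} ℤ) d)

/-- Projective space over the ring of a point, mapped to the relative projective space. -/
theorem exists_pointMap (A : Type u) [CommRing A] (a : Spec (CommRingCat.of A) ⟶ Y) :
    ∃ q : CohB1.ProjSpace r A ⟶ KRR.PY r Y, IsPullback q (CohB1.ProjSpace.toSpec r A) (KRR.pr r Y) a ∧
      ∀ d : ℤ, Nonempty ((Scheme.Modules.pullback q).obj (Twist.twistOver r Y d) ≅ Twist.twistProjSpace r A d) := by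
  let _ := zAlg A
  let q : CohB1.ProjSpace r A ⟶ KRR.PY r Y :=
    pullback.lift (Csa25.linMap (n := r) (algebraMap (ULift.{u} ℤ) A) 1 isUnit_one)
      (CohB1.ProjSpace.toSpec r A ≫ a)
      (by rw [Csa25.linMap_toSpec, Category.assoc]; exact congrArg (_ ≫ ·) (specULiftZIsTerminal.hom_ext _ _))
  refine ⟨q, ?_, fun d => ?_⟩
  · have h := Csa25.isPullback_linMap_one (n := r) (R := ULift.{u} ℤ) (R' := A)
    have hb := IsPullback.of_hasPullback (CohB1.ProjSpace.toSpec r (ULift.{u} ℤ)) (specULiftZIsTerminal.from Y)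
    rw [specULiftZIsTerminal.hom_ext (Spec.map (CommRingCat.ofHom (algebraMap (ULift.{u} ℤ) A)))
      (a ≫ specULiftZIsTerminal.from Y),
      ← (show q ≫ toZ r Y = Csa25.linMap (algebraMap (ULift.{u} ℤ) A) 1 isUnit_one from
        pullback.lift_fst _ _ _)] at h
    exact IsPullback.of_right h (pullback.lift_snd _ _ _) hb
  · obtain ⟨e⟩ := nonempty_pullback_linMap_one r A d
    exact ⟨(Scheme.Modules.pullbackComp q (toZ r Y)).app _ ≪≫
      (Scheme.Modules.pullbackCongr (pullback.lift_fst _ _ _)).app _ ≪≫ e⟩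

theorem isProper_pr (Y : Scheme.{u}) : IsProper (KRR.pr r Y) := by
  haveI := Approx60.Segre.isProper_toSpec (ULift.{u} ℤ) r
  exact MorphismProperty.pullback_snd _ _ inferInstance

theorem flat_pr (Y : Scheme.{u}) : Flat (KRR.pr r Y) := by
  haveI := H98Proj.smooth_toSpec r (ULift.{u} ℤ)
  exact MorphismProperty.pullback_snd _ _ inferInstance

/-- Over a Noetherian base a twist of an invertible module is trivial near each fibre. -/
theorem exists_frame_noetherian [IsLocallyNoetherian Y] (N : (KRR.PY r Y).Modules) (hN : PicF.IsInvertible N)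
    (y : Y) : ∃ (U : Y.Opens) (d : ℤ), y ∈ U ∧
      ∃ e : Γ(CohB1.tensorMod (Twist.twistOver r Y d) N, KRR.pr r Y ⁻¹ᵁ U),
        IsFrame (CohB1.tensorMod (Twist.twistOver r Y d) N) (KRR.pr r Y ⁻¹ᵁ U) e := by
  let f := KRR.pr r Y
  haveI := isProper_pr r Y
  haveI := flat_pr r Y
  let κ := Y.residueField y
  obtain ⟨q, hq, htw⟩ := exists_pointMap r (Y := Y) κ (Y.fromSpecResidueField y)
  let ω : CohB1.ProjSpace r κ ≅ f.fiber y := hq.isoPullback
  have hω : ω.hom ≫ f.fiberι y = q := hq.isoPullback_hom_fst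
  obtain ⟨d, ⟨eN⟩⟩ := ASB64.PicProj.exists_iso_twist _ (Amp73.isInvertible_pullback q hN)
  obtain ⟨et⟩ := htw (-d)
  obtain ⟨ea⟩ := Var76.Reg.nonempty_twist_add (n := r) (A := κ) (neg_add_cancel d)
  obtain ⟨e0⟩ := Var76.Reg.nonempty_twist_zero (n := r) (A := κ)
  let L := CohB1.tensorMod (Twist.twistOver r Y (-d)) N
  let eq : (Scheme.Modules.pullback q).obj L ≅ Coh.structureModule (CohB1.ProjSpace r κ) :=
    TwTens96.pullTensIso q _ N ≪≫ EGA73.tensIso et eN ≪≫ ea ≪≫ e0
  have hω' : ω.inv ≫ q = f.fiberι y := by rw [← hω, Iso.inv_hom_id_assoc]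
  have htriv : Nonempty ((Scheme.Modules.pullback (f.fiberι y)).obj L ≅ Coh.structureModule (f.fiber y)) :=
    ⟨(Scheme.Modules.pullbackCongr hω'.symm).app L ≪≫ ((Scheme.Modules.pullbackComp ω.inv q).app L).symm ≪≫
      (Scheme.Modules.pullback ω.inv).mapIso eq ≪≫ PicLoc.pullbackStructureIso ω.inv⟩
  have hH1 : Subsingleton (Coh.HH (f.fiber y) (Coh.structureModule (f.fiber y)) 1) := by
    let g := ω.inv
    haveI := QCqs72.isQuasicoherent_pushforward (M := Coh.structureModule (f.fiber y)) g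
    obtain ⟨η⟩ := Coh69.nonempty_hh_push g (Coh.structureModule (f.fiber y)) 1
    haveI := ValVan29.subsingleton_hh_of_iso (ASB64.pushIsoOfPullIso g (PicLoc.pullbackStructureIso g)).symm 1
      (Groth.Agent.S0023.result r κ 1 one_pos)
    exact η.toEquiv.subsingleton
  obtain ⟨V, hy, s, hs⟩ := CAlg8.SeesawH1.exists_nhd_frame_at f L
    (EGA73.isInvertible_tensorMod (isInvertible_twistOver r Y (-d)) hN) y hH1 htriv
  exact ⟨V, -d, hy, s, hs⟩

/-- Frames pull back along maps of bases. -/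
theorem exists_frame_pull {T : Scheme.{u}} (φ : T ⟶ Y) (M : (KRR.PY r Y).Modules) (hM : PicF.IsInvertible M)
    (d : ℤ) (U : Y.Opens)
    (h : ∃ e : Γ(CohB1.tensorMod (Twist.twistOver r Y d) M, KRR.pr r Y ⁻¹ᵁ U),
      IsFrame (CohB1.tensorMod (Twist.twistOver r Y d) M) (KRR.pr r Y ⁻¹ᵁ U) e)
    (N : (KRR.PY r T).Modules) (i : (Scheme.Modules.pullback (KRR.projSpaceMap r φ)).obj M ≅ N) :
    ∃ e : Γ(CohB1.tensorMod (Twist.twistOver r T d) N, KRR.pr r T ⁻¹ᵁ (φ ⁻¹ᵁ U)),
      IsFrame (CohB1.tensorMod (Twist.twistOver r T d) N) (KRR.pr r T ⁻¹ᵁ (φ ⁻¹ᵁ U)) e := by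
  obtain ⟨e, he⟩ := h
  let g := KRR.projSpaceMap r φ
  let χ := TwTens96.pullTensIso g (Twist.twistOver r Y d) M ≪≫ EGA73.tensIso (pullTwistIso φ d) i
  have h1 := Amp73.isFrame_pullS g (EGA73.isInvertible_tensorMod (isInvertible_twistOver r Y d) hM) he
  have h2 := (Amp73.isFrame_app_iff χ.hom _).2 h1
  have hpre : g ⁻¹ᵁ (KRR.pr r Y ⁻¹ᵁ U) = KRR.pr r T ⁻¹ᵁ (φ ⁻¹ᵁ U) := by
    rw [← Scheme.Hom.comp_preimage, ← Scheme.Hom.comp_preimage, projSpaceMap_pr]
  exact ⟨_, h2.res hpre.ge⟩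

/-- Over an affine base the statement descends to a Noetherian base. -/
theorem exists_frame_affine (A : CommRingCat.{u}) (N : (KRR.PY r (Spec A)).Modules) (hN : PicF.IsInvertible N)
    (y : Spec A) : ∃ (U : (Spec A).Opens) (d : ℤ), y ∈ U ∧
      ∃ e : Γ(CohB1.tensorMod (Twist.twistOver r (Spec A) d) N, KRR.pr r (Spec A) ⁻¹ᵁ U),
        IsFrame (CohB1.tensorMod (Twist.twistOver r (Spec A) d) N) (KRR.pr r (Spec A) ⁻¹ᵁ U) e := by
  obtain ⟨J, _, _, D, π, hD, ⟨hc⟩⟩ := Approx60.exists_approximation (Spec A)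
  haveI := hD.aff
  haveI := hD.compact
  haveI hln := fun i => @Approx60.isLocallyNoetherian_of_lft_toZ _ (hD.lft i)
  let c : Cone D := Cone.mk (Spec A) π
  obtain ⟨i₀⟩ := IsCofiltered.nonempty (C := J)
  let w := KRR.pr r (D.obj i₀)
  let eW := KRR.projSpaceMap r (c.π.app i₀)
  have hW : IsPullback eW (KRR.pr r (Spec A)) w (c.π.app i₀) := isPullback_projSpaceMap (c.π.app i₀) r
  let c' := LimTop61.bcCone D c w eW (KRR.pr r (Spec A)) hW.w
  have hc' : IsLimit c' := LimTop61.isLimitBcCone D c hc w eW (KRR.pr r (Spec A)) hW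
  haveI := isProper_pr r (D.obj i₀)
  haveI : ∀ j, CompactSpace ↥((LimTop61.bcDiagram D w).obj j) := fun j =>
    @QuasiCompact.compactSpace_of_compactSpace _ (D.obj j.left) (pullback.snd w (D.map j.hom)) inferInstance inferInstance
  haveI : ∀ j, QuasiSeparatedSpace ↥((LimTop61.bcDiagram D w).obj j) := fun j =>
    quasiSeparatedSpace_of_quasiSeparated (pullback.snd w (D.map j.hom))
  obtain ⟨j, M, hM, ⟨iM⟩⟩ := PicLim95.exists_invertible_stage (c := c') hc' N hN
  have hj : IsPullback (KRR.projSpaceMap r (D.map j.hom)) (KRR.pr r (D.obj j.left)) w (D.map j.hom) :=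
    isPullback_projSpaceMap (D.map j.hom) r
  let θ : KRR.PY r (D.obj j.left) ≅ pullback w (D.map j.hom) := hj.isoPullback
  have hθ : KRR.projSpaceMap r (c.π.app j.left) ≫ θ.hom = c'.π.app j := by
    refine pullback.hom_ext ?_ ?_
    · rw [Category.assoc, hj.isoPullback_hom_fst]
      refine Eq.trans ?_ (pullback.lift_fst _ _ _).symm
      refine pullback.hom_ext ?_ ?_
      · show (_ ≫ _) ≫ toZ r _ = eW ≫ toZ r _
        rw [Category.assoc, projSpaceMap_toZ, projSpaceMap_toZ, projSpaceMap_toZ]; rfl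
      · show (_ ≫ _) ≫ KRR.pr r _ = eW ≫ KRR.pr r _
        rw [Category.assoc, projSpaceMap_pr, reassoc_of% (projSpaceMap_pr (n := r) (c.π.app j.left)), projSpaceMap_pr,
          c.w j.hom]; rfl
    · rw [Category.assoc, hj.isoPullback_hom_snd, projSpaceMap_pr]
      exact (pullback.lift_snd _ _ _).symm
  let M' := (Scheme.Modules.pullback θ.hom).obj M
  have hM' : PicF.IsInvertible M' := Amp73.isInvertible_pullback θ.hom hM
  obtain ⟨U₀, d, hy₀, he⟩ := exists_frame_noetherian r M' hM' (c.π.app j.left y)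
  exact ⟨c.π.app j.left ⁻¹ᵁ U₀, d, hy₀, exists_frame_pull r (c.π.app j.left) M' hM' d U₀ he N
    ((Scheme.Modules.pullbackComp _ θ.hom).app M ≪≫ (Scheme.Modules.pullbackCongr hθ).app M ≪≫ iM)⟩

/-- A twist of an invertible module is trivial over a neighbourhood of each point of the base. -/
theorem exists_frame (N : (KRR.PY r Y).Modules) (hN : PicF.IsInvertible N) (y : Y) :
    ∃ (U : Y.Opens) (d : ℤ), y ∈ U ∧
      ∃ e : Γ(CohB1.tensorMod (Twist.twistOver r Y d) N, KRR.pr r Y ⁻¹ᵁ U),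
        IsFrame (CohB1.tensorMod (Twist.twistOver r Y d) N) (KRR.pr r Y ⁻¹ᵁ U) e := by
  obtain ⟨V, hV, hyV, -⟩ := exists_isAffineOpen_mem_and_subset (x := y) (U := ⊤) trivial
  let j := hV.fromSpec
  let g := KRR.projSpaceMap r j
  have hg : IsPullback g (KRR.pr r (Spec Γ(Y, V))) (KRR.pr r Y) j := isPullback_projSpaceMap j r
  haveI : IsOpenImmersion g := MorphismProperty.of_isPullback (P := @IsOpenImmersion) hg.flip inferInstance
  obtain ⟨y', rfl⟩ : y ∈ Set.range j := by rw [hV.range_fromSpec]; exact hyV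
  let N' := (Scheme.Modules.pullback g).obj N
  obtain ⟨U, d, hy', e, he⟩ := exists_frame_affine r Γ(Y, V) N' (Amp73.isInvertible_pullback g hN) y'
  let L := CohB1.tensorMod (Twist.twistOver r Y d) N
  let χ : L.restrict g ≅ CohB1.tensorMod (Twist.twistOver r (Spec Γ(Y, V)) d) N' :=
    (Scheme.Modules.restrictFunctorIsoPullback g).app L ≪≫ TwTens96.pullTensIso g _ N ≪≫
      EGA73.tensIso (pullTwistIso j d) (Iso.refl _)
  have h2 := (Props58.PullTensor.isFrame_restrict_iff g L _ _).1 ((Amp73.isFrame_app_iff χ.inv _).2 he)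
  have himg : g ''ᵁ (KRR.pr r (Spec Γ(Y, V)) ⁻¹ᵁ U) = KRR.pr r Y ⁻¹ᵁ (j ''ᵁ U) :=
    IsOpenImmersion.image_preimage_eq_preimage_image_of_isPullback hg.flip U
  exact ⟨j ''ᵁ U, d, ⟨y', hy', rfl⟩, _, h2.res himg.ge⟩

end Groth.Agent.Pn25
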