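import Groth.Agent.Pn25.Local
import Groth.Agent.ParaF26.Open
import Groth.Agent.Cube7.Seesaw
import Groth.Agent.K0Proj46.FinSections
import Groth.Agent.Var76.RegPow

/-! Invertible modules on projective space over a connected base. -/

set_option autoImplicit false
set_option maxSynthPendingDepth 6
set_option backward.isDefEq.respectTransparency false
set_option backward.isDefEq.respectTransparency.types false
universe u

open CategoryTheory CategoryTheory.Limits AlgebraicGeometry TopologicalSpace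

noncomputable section

namespace Groth.Agent.Pn25

open Var76.LineBundle KRR40

variable {r : ℕ} {Y : Scheme.{u}}

theorem nonempty_twistOver_add {a b c : ℤ} (h : a + b = c) :
    Nonempty (CohB1.tensorMod (Twist.twistOver r Y a) (Twist.twistOver r Y b) ≅ Twist.twistOver r Y c) :=
  ⟨(TwTens96.pullTensIso (toZ r Y) _ _).symm ≪≫
    (Scheme.Modules.pullback (toZ r Y)).mapIso (Var76.Reg.nonempty_twist_add h).some⟩

theorem nonempty_twistOver_zero :
    Nonempty (Twist.twistOver r Y 0 ≅ Coh.structureModule (KRR.PY r Y)) :=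
  ⟨(Scheme.Modules.pullback (toZ r Y)).mapIso Var76.Reg.nonempty_twist_zero.some ≪≫
    PicLoc.pullbackStructureIso (toZ r Y)⟩

/-- Over `P⁰` every twisting sheaf is trivial. -/
theorem nonempty_twistOver_rank_zero (d : ℤ) :
    Nonempty (Twist.twistOver 0 Y d ≅ Coh.structureModule (KRR.PY 0 Y)) := by
  have hx : (⊤ : (CohB1.ProjSpace 0 (ULift.{u} ℤ)).Opens) ≤ Var76.Reg.xOpen 0 (ULift.{u} ℤ) 0 := fun x _ => by
    obtain ⟨l, hl⟩ := Var76.Reg.exists_mem_xOpen 0 (ULift.{u} ℤ) x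
    rwa [← Fin.fin_one_eq_zero l]
  have h : IsFrame (Twist.twistProjSpace 0 (ULift.{u} ℤ) d) (Var76.Reg.xOpen 0 (ULift.{u} ℤ) 0)
      (Var76.Reg.gUnit (𝒜 := CohB1.polyGrading 0 (ULift.{u} ℤ)) (Var76.Reg.xVar 0 (ULift.{u} ℤ) 0) d).fwd :=
    Var76.Reg.isFrame_unit _
  exact ⟨(Scheme.Modules.pullback (toZ 0 Y)).mapIso (ParaF26.nonempty_iso_unit (h.res hx)).some ≪≫
    PicLoc.pullbackStructureIso (toZ 0 Y)⟩

/-- The projection is cancellable on twisted inverse images. -/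
theorem nonempty_cancel_twist (d : ℤ) {M : (KRR.PY r Y).Modules} {N : (KRR.PY r Y).Modules}
    (φ : CohB1.tensorMod (Twist.twistOver r Y d) N ≅ M) :
    Nonempty (N ≅ CohB1.tensorMod (Twist.twistOver r Y (-d)) M) :=
  ⟨(EGA73.tensUnitLeft N).symm ≪≫ EGA73.tensIso nonempty_twistOver_zero.some.symm (Iso.refl _) ≪≫
    EGA73.tensIso (nonempty_twistOver_add (r := r) (Y := Y) (neg_add_cancel d)).some.symm (Iso.refl _) ≪≫
    EGA73.tensAssoc' _ _ _ ≪≫ EGA73.tensIso (Iso.refl _) φ⟩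

/-- A frame around a fibre trivialises the restriction to the fibre over a point. -/
theorem nonempty_iso_fibre {A : Type u} [CommRing A] (q : CohB1.ProjSpace r A ⟶ KRR.PY r Y)
    {M : (KRR.PY r Y).Modules} (hM : PicF.IsInvertible M) {O : (KRR.PY r Y).Opens} (hO : q ⁻¹ᵁ O = ⊤)
    {e : Γ(M, O)} (he : IsFrame M O e) :
    Nonempty ((Scheme.Modules.pullback q).obj M ≅ Coh.structureModule (CohB1.ProjSpace r A)) :=
  ParaF26.nonempty_iso_unit ((Amp73.isFrame_pullS q hM he).res hO.ge)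

/-- The degree of a locally trivial twist is determined at each point of the base. -/
theorem eq_of_frames (hr : 1 ≤ r) (N : (KRR.PY r Y).Modules) (hN : PicF.IsInvertible N) (y : Y)
    {d d' : ℤ} {U U' : Y.Opens} (hy : y ∈ U) (hy' : y ∈ U')
    {e : Γ(CohB1.tensorMod (Twist.twistOver r Y d) N, KRR.pr r Y ⁻¹ᵁ U)}
    (he : IsFrame (CohB1.tensorMod (Twist.twistOver r Y d) N) (KRR.pr r Y ⁻¹ᵁ U) e)
    {e' : Γ(CohB1.tensorMod (Twist.twistOver r Y d') N, KRR.pr r Y ⁻¹ᵁ U')}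
    (he' : IsFrame (CohB1.tensorMod (Twist.twistOver r Y d') N) (KRR.pr r Y ⁻¹ᵁ U') e') : d = d' := by
  let κ := Y.residueField y
  obtain ⟨q, hq, htw⟩ := exists_pointMap r (Y := Y) κ (Y.fromSpecResidueField y)
  have hO : ∀ W : Y.Opens, y ∈ W → q ⁻¹ᵁ (KRR.pr r Y ⁻¹ᵁ W) = ⊤ := fun W hW => by
    rw [← Scheme.Hom.comp_preimage, hq.w, Scheme.Hom.comp_preimage]
    refine top_le_iff.1 fun x _ => ?_
    show Y.fromSpecResidueField y _ ∈ W
    rw [Scheme.fromSpecResidueField_apply]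
    exact hW
  have key : ∀ (a : ℤ) (W : Y.Opens), y ∈ W →
      (∃ e : Γ(CohB1.tensorMod (Twist.twistOver r Y a) N, KRR.pr r Y ⁻¹ᵁ W),
        IsFrame (CohB1.tensorMod (Twist.twistOver r Y a) N) (KRR.pr r Y ⁻¹ᵁ W) e) →
      Nonempty (CohB1.tensorMod (Twist.twistProjSpace r κ a) ((Scheme.Modules.pullback q).obj N) ≅
        Coh.structureModule (CohB1.ProjSpace r κ)) := by
    rintro a W hW ⟨f, hf⟩
    obtain ⟨i⟩ := nonempty_iso_fibre q (EGA73.isInvertible_tensorMod (isInvertible_twistOver r Y a) hN) (hO W hW) hf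
    exact ⟨(EGA73.tensIso (htw a).some.symm (Iso.refl _)) ≪≫ (TwTens96.pullTensIso q _ N).symm ≪≫ i⟩
  obtain ⟨c, ⟨eN⟩⟩ := ASB64.PicProj.exists_iso_twist _ (Amp73.isInvertible_pullback q hN)
  have deg : ∀ a : ℤ, Nonempty (CohB1.tensorMod (Twist.twistProjSpace r κ a) ((Scheme.Modules.pullback q).obj N) ≅
      Coh.structureModule (CohB1.ProjSpace r κ)) → a + c = 0 := fun a ⟨i⟩ =>
    ASB64.PicProj.eq_of_iso_twist hr ((Var76.Reg.nonempty_twist_add rfl).some.symm ≪≫
      EGA73.tensIso (Iso.refl _) eN.symm ≪≫ i ≪≫ Var76.Reg.nonempty_twist_zero.some.symm)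
  have h1 := deg d (key d U hy ⟨e, he⟩)
  have h2 := deg d' (key d' U' hy' ⟨e', he'⟩)
  omega

/-- An invertible module on projective space over a connected base is trivial near each fibre after one twist. -/
theorem exists_twist [ConnectedSpace Y] (N : (KRR.PY r Y).Modules) (hN : PicF.IsInvertible N) :
    ∃ d : ℤ, ∀ y : Y, ∃ U : Y.Opens, y ∈ U ∧
      ∃ e : Γ(CohB1.tensorMod (Twist.twistOver r Y d) N, KRR.pr r Y ⁻¹ᵁ U),
        IsFrame (CohB1.tensorMod (Twist.twistOver r Y d) N) (KRR.pr r Y ⁻¹ᵁ U) e := by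
  choose U d hy e he using exists_frame r N hN
  rcases Nat.eq_zero_or_pos r with rfl | hr
  · refine ⟨0, fun y => ⟨U y, hy y, ?_⟩⟩
    let χ := EGA73.tensIso ((nonempty_twistOver_rank_zero (Y := Y) (d y)).some ≪≫
      (nonempty_twistOver_rank_zero (Y := Y) 0).some.symm) (Iso.refl N)
    exact ⟨_, (Amp73.isFrame_app_iff χ.hom _).2 (he y)⟩
  · let y₀ : Y := Classical.arbitrary Y
    have hl : IsLocallyConstant d :=
      (IsLocallyConstant.iff_exists_open d).2 fun y => ⟨U y, (U y).2, hy y, fun x hx =>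
        eq_of_frames hr N hN x (hy x) hx (he x) (he y)⟩
    refine ⟨d y₀, fun y => ⟨U y, hy y, ?_⟩⟩
    rw [← hl.apply_eq_of_preconnectedSpace y y₀]
    exact ⟨e y, he y⟩

/-- Every invertible module is a twisted inverse image. -/
theorem exists_eq_pullback_tensor_twist [ConnectedSpace Y] (N : (KRR.PY r Y).Modules) (hN : PicF.IsInvertible N) :
    ∃ (L : Y.Modules) (d : ℤ), PicF.IsInvertible L ∧
      Nonempty (N ≅ CohB1.tensorMod ((Scheme.Modules.pullback (KRR.pr r Y)).obj L) (Twist.twistOver r Y d)) := by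
  obtain ⟨d, hd⟩ := exists_twist N hN
  obtain ⟨h1, h2⟩ := Cube7.invertible_and_counit_of_frames (KRR.pr r Y) (bijective_app_pr r) hd
  obtain ⟨i⟩ := nonempty_cancel_twist d (@asIso _ _ _ _ _ h2).symm
  exact ⟨_, -d, h1, ⟨i ≪≫ EGA73.tensComm _ _⟩⟩

/-- The degree and the module on the base are unique. -/
theorem eq_and_nonempty_iso [Nonempty Y] (hr : 1 ≤ r) {L L' : Y.Modules} (d d' : ℤ) (hL : PicF.IsInvertible L)
    (hL' : PicF.IsInvertible L')
    (φ : CohB1.tensorMod ((Scheme.Modules.pullback (KRR.pr r Y)).obj L) (Twist.twistOver r Y d) ≅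
      CohB1.tensorMod ((Scheme.Modules.pullback (KRR.pr r Y)).obj L') (Twist.twistOver r Y d')) :
    d = d' ∧ Nonempty (L ≅ L') := by
  let p := KRR.pr r Y
  let y : Y := Classical.arbitrary Y
  obtain ⟨V, hyV, -, s, hs⟩ := Mero90.exists_affine_frame hL y ⊤ trivial
  obtain ⟨V', hyV', -, s', hs'⟩ := Mero90.exists_affine_frame hL' y ⊤ trivial
  obtain ⟨i0⟩ := nonempty_cancel_twist (r := r) (Y := Y) d (EGA73.tensComm _ _ ≪≫ φ)
  have hdd : d = d' := by
    let N := CohB1.tensorMod ((Scheme.Modules.pullback p).obj L) (Twist.twistOver r Y d)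
    have hN : PicF.IsInvertible N :=
      EGA73.isInvertible_tensorMod (Amp73.isInvertible_pullback p hL) (isInvertible_twistOver r Y d)
    have mk : ∀ (M : Y.Modules) (hM : PicF.IsInvertible M) (a : ℤ) (W : Y.Opens) (m : Γ(M, W))
        (_ : IsFrame M W m) (_ : N ≅ CohB1.tensorMod ((Scheme.Modules.pullback p).obj M) (Twist.twistOver r Y a)),
        ∃ e : Γ(CohB1.tensorMod (Twist.twistOver r Y (-a)) N, p ⁻¹ᵁ W),
          IsFrame (CohB1.tensorMod (Twist.twistOver r Y (-a)) N) (p ⁻¹ᵁ W) e := fun M hM a W m hm ψ => by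
      obtain ⟨χ⟩ := nonempty_cancel_twist (r := r) (Y := Y) a (EGA73.tensComm _ _ ≪≫ ψ.symm)
      exact ⟨_, (Amp73.isFrame_app_iff χ.hom _).2 (Amp73.isFrame_pullS p hM hm)⟩
    obtain ⟨e, he⟩ := mk L hL d V s hs (Iso.refl _)
    obtain ⟨e', he'⟩ := mk L' hL' d' V' s' hs' φ
    exact neg_injective (eq_of_frames hr N hN y hyV hyV' he he')
  subst hdd
  obtain ⟨i1⟩ := nonempty_cancel_twist (r := r) (Y := Y) d (EGA73.tensComm _ ((Scheme.Modules.pullback p).obj L'))
  let unit : ∀ {M : Y.Modules}, PicF.IsInvertible M →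
      (M ≅ (Scheme.Modules.pushforward p).obj ((Scheme.Modules.pullback p).obj M)) := fun {M} hM =>
    @asIso _ _ _ _ _ (isIso_unit_vb r (K0Proj46.flf_isInvertible hM))
  exact ⟨rfl, ⟨unit hL ≪≫ (Scheme.Modules.pushforward p).mapIso (i0 ≪≫ i1.symm) ≪≫ (unit hL').symm⟩⟩

end Groth.Agent.Pn25
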